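import Cfsg.Agent.Lib.TwistE6Sub.Coord
import Cfsg.Agent.Lib.ChevFoldF4.Iso
import Cfsg.Agent.Lib.Chev.SylowU
import Cfsg.Agent.Lib.TwistAut.Basic

/-!
# The subgroup F₄(2) of ²E₆(2) and its conjugates under diagonal automorphisms

* `F4sub` : the image of the fixed points over the prime field, of type F₄;
* `diagC_conj_G0` : symmetric diagonal characters normalise the twisted group;
* `diag_trivial` : a diagonal twist of `F4sub` conjugate to it in the twisted group has trivial class.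
-/

set_option autoImplicit false
set_option maxRecDepth 100000
set_option linter.unusedSectionVars false

namespace Cfsg.Agent.TwistE6Sub

open Cfsg.Lie Cfsg.Lie.ChevalleyDatum Cfsg.Agent.Chev Cfsg.Agent.ChevBN
open Cfsg.Agent.ChevFoldF4 (e6Good)
open Cfsg.Agent.TwistE6D4 (e6Twist e6Node ctxE6)

instance : Fact (Nat.Prime 2) := ⟨Nat.prime_two⟩

/-- The fixed points over the prime field. -/
noncomputable abbrev C2 : TwistE6D4.Ctx chevE6 (ZMod 2) := ChevFoldF4.C (ZMod 2)

/-- The nodes, orbit by orbit. -/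
def nodes : List (Fin chevE6.rank) := ([1, 3, 2, 4, 0, 5] : List (Fin 6)).map ChevFoldF4.e6n

/-- The nodes of each orbit. -/
def blocks : List (List (Fin chevE6.rank)) :=
  ([[1], [3], [2, 4], [0, 5]] : List (List (Fin 6))).map fun l => l.map ChevFoldF4.e6n

theorem node_blocks : ∀ a : Fin 4,
    (List.range (e6Twist.len (chevE6.simple (e6Node a).val))).map (fun k => e6Twist.pi^[k] (e6Node a)) =
      blocks.getD a.val [] := by
  decide +kernel

theorem node_period : ∀ a : Fin 4,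
    e6Twist.pi^[e6Twist.len (chevE6.simple (e6Node a).val)] (e6Node a) = e6Node a := by
  decide +kernel

/-! ### Both fields -/

section uvec

variable {K : Type*} [Field K] (φ : K →+* K)

theorem op_one (a : Fin 4) : (ctxE6 e6Good φ).op a 1 =
    ((blocks.getD a.val []).map
      fun j => xg e6Good K (chevE6.simple j.val) 1).prod := by
  rw [← node_blocks a, List.map_map]
  show ((List.range ((ctxE6 e6Good φ).L a)).map fun k => _).prod = _
  refine congrArg List.prod (List.map_congr_left fun k _ => ?_)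
  show xg e6Good K _ _ = xg e6Good K _ 1
  rw [← RingHom.coe_pow, map_one, TwistE6D4.Ctx.rk_eq]
  rfl

theorem uvec_eq_ops : uvec e6Good nodes (fun _ => (1 : K)) =
    ((List.finRange 4).map fun a => (ctxE6 e6Good φ).op a 1).prod := by
  simp [List.finRange_succ, op_one, uvec, nodes, blocks, mul_assoc]

theorem uvec_mem_G0 : uvec e6Good nodes (fun _ => (1 : K)) ∈ (ctxE6 e6Good φ).G0 := by
  rw [uvec_eq_ops φ]
  refine Subgroup.list_prod_mem _ fun x hx => ?_
  obtain ⟨a, -, rfl⟩ := List.mem_map.1 hx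
  exact (ctxE6 e6Good φ).op_mem_G0 a (by show _^[_] (1 : K) = 1; rw [← RingHom.coe_pow, map_one])

theorem Co_uvec (i : Fin chevE6.rank) (c : Fin chevE6.rank → K) :
    Co e6Good rootsE6 i (uvec e6Good nodes c) (c i) := by
  have h := Co.uvec e6Good rootsE6 (i := i) nodes c
  have e : ((nodes.map fun j => if j = i then c j else 0).sum) = c i := by
    obtain ⟨k, rfl⟩ : ∃ k, ChevFoldF4.e6n k = i := by
      clear h; revert i; decide +kernel
    fin_cases k <;> simp [nodes, ChevFoldF4.e6n, Fin.ext_iff]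
  rwa [e] at h

theorem uvec_mem : uvec e6Good nodes (fun _ => (1 : K)) ∈ (chevRGD e6Good rootsE6 K).Upos :=
  (Co_uvec (⟨0, by decide +kernel⟩ : Fin chevE6.rank) fun _ => (1 : K)).mem e6Good rootsE6

theorem uvec_regular (i : Fin chevE6.rank) :
    uvec e6Good nodes (fun _ => (1 : K)) ∉ (chevRGD e6Good rootsE6 K).Udel i :=
  (Co_uvec i fun _ => (1 : K)).not_mem e6Good rootsE6 one_ne_zero

theorem mem_B_of_conj {g : GL chevE6.Idx K} (hg : g ∈ chevE6.group K)
    (h : g * uvec e6Good nodes (fun _ => (1 : K)) * g⁻¹ ∈ (chevRGD e6Good rootsE6 K).Upos) :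
    g ∈ (chevRGD e6Good rootsE6 K).B :=
  (chevRGD e6Good rootsE6 K).regular_mem_B uvec_mem uvec_regular (by rwa [chev_G]) h

end uvec

/-! ### The fixed group over the prime field -/

theorem C2_Upos_le : C2.rgd.Upos ≤ (chevRGD e6Good rootsE6 (ZMod 2)).Upos := by
  rw [chev_Upos e6Good rootsE6, C2.posUnipotent_eq, C2.Upos_eq]
  exact inf_le_left

theorem C2_B_eq : C2.rgd.B = C2.rgd.Upos := by
  refine sup_eq_left.2 ?_
  rintro _ ⟨x, -, rfl⟩
  have : x = 1 := funext fun i => Subsingleton.elim _ _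
  rw [this, map_one]
  exact one_mem _

theorem C2_self_normal {g : GL chevE6.Idx (ZMod 2)} (hg : g ∈ C2.G0)
    (h : ∀ x ∈ C2.rgd.Upos, g * x * g⁻¹ ∈ C2.rgd.Upos) : g ∈ C2.rgd.Upos := by
  have hu : uvec e6Good nodes (fun _ => (1 : ZMod 2)) ∈ C2.rgd.Upos := by
    rw [← C2_B_eq, ← C2.borel_inf_G0]
    refine ⟨?_, uvec_mem_G0 (RingHom.id (ZMod 2))⟩
    exact le_sup_left (a := chevE6.posUnipotent (ZMod 2)) (by rw [← chev_Upos (F := ZMod 2) e6Good rootsE6]; exact uvec_mem)
  have hB := mem_B_of_conj (C2.G0_le_group hg) (C2_Upos_le (h _ hu))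
  rw [← C2_B_eq, ← C2.borel_inf_G0]
  exact ⟨by rw [← chev_B (F := ZMod 2) e6Good rootsE6]; exact hB, hg⟩

theorem C2_pGroup : IsPGroup 2 ↥C2.rgd.Upos :=
  (Chev.BT.isPGroup_pos (F := ZMod 2) 2 e6Good).to_le (by rw [← chev_Upos (F := ZMod 2) e6Good rootsE6]; exact C2_Upos_le)

/-- In a finite group a self-normalising 2-subgroup is a Sylow subgroup. -/
theorem exists_conj_mem {Γ : Type*} [Group Γ] [Finite Γ] (G U : Subgroup Γ) (hUG : U ≤ G)
    (hU : IsPGroup 2 ↥U) (hN : ∀ g ∈ G, (∀ x ∈ U, g * x * g⁻¹ ∈ U) → g ∈ U) {x : Γ} (hx : x ∈ G) {n : ℕ}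
    (hn : x ^ 2 ^ n = 1) : ∃ h ∈ G, h * x * h⁻¹ ∈ U := by
  obtain ⟨P, hP⟩ := (hU.comap_of_injective G.subtype Subtype.coe_injective).exists_le_sylow
  set U' := U.comap G.subtype with hU'
  have hPU : (P : Subgroup ↥G) = U' := by
    by_contra hne
    haveI : Group.IsNilpotent ↥(P : Subgroup ↥G) := P.isPGroup'.isNilpotent
    have hlt : U'.subgroupOf P < ⊤ := lt_top_iff_ne_top.2 fun e => hne (le_antisymm (Subgroup.subgroupOf_eq_top.1 e) hP)
    obtain ⟨y, hy, hyU⟩ := SetLike.exists_of_lt (Group.normalizerCondition_of_isNilpotent (U'.subgroupOf P) hlt)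
    apply hyU
    refine Subgroup.mem_subgroupOf.2 (hN _ (y : ↥G).2 fun z hz => ?_)
    have hzP : (⟨z, hUG hz⟩ : ↥G) ∈ (P : Subgroup ↥G) := hP hz
    exact (Subgroup.mem_normalizer_iff.1 hy ⟨⟨z, hUG hz⟩, hzP⟩).1 hz
  obtain ⟨Q, hQ⟩ := (IsPGroup.exists_le_sylow (P := Subgroup.zpowers (⟨x, hx⟩ : ↥G))
    (fun y => ⟨n, by
      obtain ⟨⟨y, ⟨k, rfl⟩⟩, rfl⟩ : ∃ y', y' = y := ⟨y, rfl⟩
      apply Subtype.ext
      show ((⟨x, hx⟩ : ↥G) ^ k) ^ 2 ^ n = 1
      rw [← zpow_natCast, ← zpow_mul, mul_comm, zpow_mul, zpow_natCast,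
        show (⟨x, hx⟩ : ↥G) ^ 2 ^ n = 1 from Subtype.ext (by simpa using hn), one_zpow]⟩))
  obtain ⟨g, hg⟩ := MulAction.exists_smul_eq ↥G Q P
  refine ⟨g, g.2, ?_⟩
  have h1 : g * ⟨x, hx⟩ * g⁻¹ ∈ (P : Subgroup ↥G) := by
    rw [← hg, Sylow.coe_subgroup_smul]
    exact ⟨⟨x, hx⟩, hQ (Subgroup.mem_zpowers _), rfl⟩
  rw [hPU] at h1
  exact h1

/-! ### The larger field -/

variable {K : Type*} [Field K] [CharP K 2] (φ : K →+* K)

/-- Extension of scalars. -/
noncomputable def baseHom : GL chevE6.Idx (ZMod 2) →* GL chevE6.Idx K :=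
  Matrix.GeneralLinearGroup.map (ZMod.castHom (dvd_refl 2) K)

theorem baseHom_injective : Function.Injective (baseHom (K := K)) := by
  intro a b h
  refine Units.ext (Matrix.ext fun i j => (ZMod.castHom (dvd_refl 2) K).injective ?_)
  have h1 : (a : Matrix chevE6.Idx chevE6.Idx (ZMod 2)).map (ZMod.castHom (dvd_refl 2) K) =
      (b : Matrix chevE6.Idx chevE6.Idx (ZMod 2)).map (ZMod.castHom (dvd_refl 2) K) := congrArg Units.val h
  exact congrFun₂ h1 i j

theorem baseHom_xg (r : ℕ) (t : ZMod 2) :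
    baseHom (xg e6Good (ZMod 2) r t) = xg e6Good K r (ZMod.castHom (dvd_refl 2) K t) := by
  refine Units.ext ?_
  show (chevE6.x (ZMod 2) r t).map (ZMod.castHom (dvd_refl 2) K) = chevE6.x K r _
  by_cases hr : r < chevE6.nroots
  · rw [x_eq_xR _ hr, x_eq_xR _ hr, xR_map]
  · rw [x_of_le _ (Nat.not_lt.1 hr), x_of_le _ (Nat.not_lt.1 hr)]
    simp

theorem baseHom_uvec : baseHom (uvec e6Good nodes (fun _ => (1 : ZMod 2))) = uvec e6Good nodes (fun _ => (1 : K)) := by
  rw [uvec, uvec, map_list_prod, List.map_map]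
  exact congrArg List.prod (List.map_congr_left fun j _ => by simp only [Function.comp_apply, baseHom_xg, map_one])

theorem baseHom_span {A : Set (Fin chevE6.nroots)} {z : GL chevE6.Idx (ZMod 2)}
    (hz : z ∈ (chevRGD e6Good rootsE6 (ZMod 2)).span A) : baseHom z ∈ (chevRGD e6Good rootsE6 K).span A := by
  suffices h : (chevRGD e6Good rootsE6 (ZMod 2)).span A ≤ ((chevRGD e6Good rootsE6 K).span A).comap baseHom from h hz
  refine (chevRGD e6Good rootsE6 (ZMod 2)).span_le fun r hr y hy => ?_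
  obtain ⟨t, rfl⟩ := (mem_rootSubgroup e6Good _).1 hy
  rw [Subgroup.mem_comap, baseHom_xg]
  exact (chevRGD e6Good rootsE6 K).U_le_span hr (xg_mem_rootSubgroup e6Good _ _)

theorem fix_prime (t : ZMod 2) : φ (ZMod.castHom (dvd_refl 2) K t) = ZMod.castHom (dvd_refl 2) K t :=
  RingHom.congr_fun (RingHom.ext_zmod (φ.comp (ZMod.castHom (dvd_refl 2) K)) (ZMod.castHom (dvd_refl 2) K)) t

/-- The subgroup of type F₄. -/
noncomputable def F4sub : Subgroup (GL chevE6.Idx K) := C2.G0.map baseHom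

theorem F4sub_iso : Nonempty (↥(F4sub (K := K)) ≃* ↥(chevF4.group (ZMod 2))) := by
  obtain ⟨e⟩ := ChevFoldF4.G0_iso (K := ZMod 2)
  exact ⟨(C2.G0.equivMapOfInjective baseHom baseHom_injective).symm.trans e⟩

theorem F4sub_le : F4sub ≤ (ctxE6 e6Good φ).G0 := by
  refine Subgroup.map_le_iff_le_comap.2 ((Subgroup.closure_le _).2 ?_)
  rintro g ⟨a, t, -, hg⟩
  have hit : ∀ k, (⇑φ)^[k] (ZMod.castHom (dvd_refl 2) K t) = ZMod.castHom (dvd_refl 2) K t :=
    fun k => Function.iterate_fixed (fix_prime φ t) k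
  have hPm : (ctxE6 e6Good φ).Pm a (ZMod.castHom (dvd_refl 2) K t) := hit _
  have hid : ∀ k, (⇑(RingHom.id (ZMod 2)))^[k] t = t := fun k => Function.iterate_fixed rfl k
  rcases hg with rfl | rfl
  · rw [SetLike.mem_coe, Subgroup.mem_comap, show baseHom (C2.op a t) =
      (ctxE6 e6Good φ).op a (ZMod.castHom (dvd_refl 2) K t) from ?_]
    · exact (ctxE6 e6Good φ).op_mem_G0 a hPm
    show baseHom (List.prod _) = List.prod _
    rw [map_list_prod, List.map_map]
    exact congrArg List.prod (List.map_congr_left fun k _ => by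
      rw [Function.comp_apply, baseHom_xg, hid, hit]; rfl)
  · rw [SetLike.mem_coe, Subgroup.mem_comap, show baseHom (C2.om a t) =
      (ctxE6 e6Good φ).om a (ZMod.castHom (dvd_refl 2) K t) from ?_]
    · exact (ctxE6 e6Good φ).om_mem_G0 a hPm
    show baseHom (List.prod _) = List.prod _
    rw [map_list_prod, List.map_map]
    exact congrArg List.prod (List.map_congr_left fun k _ => by
      rw [Function.comp_apply, baseHom_xg, hid, hit]; rfl)

/-- The diagonal element with given values at the fundamental roots. -/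
noncomputable def diagC (c : Fin chevE6.rank → Kˣ) : GL chevE6.Idx K :=
  ChevAut.charUnit chevE6 (ChevAut.chiOf chevE6 adjE6 3 c)

theorem diagC_char (c : Fin chevE6.rank → Kˣ) : chevE6.IsRootCharacter (ChevAut.chiOf chevE6 adjE6 3 c) :=
  ChevAut.chiOf_isRootCharacter e6Good rootsE6 c

theorem diagC_conj_G0 {c : Fin chevE6.rank → Kˣ} (hc : ∀ i, (c (e6Twist.pi i) : K) = φ (c i))
    {g : GL chevE6.Idx K} (hg : g ∈ (ctxE6 e6Good φ).G0) :
    diagC c * g * (diagC c)⁻¹ ∈ (ctxE6 e6Good φ).G0 := by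
  set C := ctxE6 e6Good φ with hC
  suffices h : C.G0 ≤ C.G0.comap (MulAut.conj (diagC c)).toMonoidHom from h hg
  have hrk : ∀ (a : Fin 4) (k : ℕ), C.rk a k < chevE6.nroots ∧
      (ChevAut.chiOf chevE6 adjE6 3 c (C.rk a k) : K) = (⇑φ)^[k] (c (e6Node a) : K) := by
    intro a k
    rw [C.rk_eq]
    refine ⟨e6Good.simple_lt _ (Fin.isLt _), ?_⟩
    rw [ChevAut.chiOf_simple e6Good rootsE6]
    show (c (e6Twist.pi^[k] (e6Node a)) : K) = _
    induction k with
    | zero => rfl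
    | succ k ih => rw [Function.iterate_succ_apply', hc, ih, Function.iterate_succ_apply']
  have hper : ∀ a : Fin 4, (⇑φ)^[C.L a] (c (e6Node a) : K) = (c (e6Node a) : K) := by
    intro a
    rw [← (hrk a _).2, C.rk_eq, ChevAut.chiOf_simple e6Good rootsE6]
    exact congrArg (fun i => (c i : K)) (node_period a)
  refine (Subgroup.closure_le _).2 ?_
  rintro _ ⟨a, t, ht, hg⟩
  have hP1 : C.Pm a ((c (e6Node a) : K) * t) := by
    show (⇑φ)^[C.L a] _ = _
    rw [← RingHom.coe_pow, map_mul, RingHom.coe_pow, hper a]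
    exact congrArg _ ht
  have hP2 : C.Pm a (((c (e6Node a))⁻¹ : Kˣ) * t : K) := by
    show (⇑φ)^[C.L a] _ = _
    rw [← RingHom.coe_pow, map_mul, Units.val_inv_eq_inv_val, map_inv₀, RingHom.coe_pow, hper a]
    exact congrArg _ ht
  rcases hg with rfl | rfl
  · rw [SetLike.mem_coe, Subgroup.mem_comap, show (MulAut.conj (diagC c)).toMonoidHom (C.op a t) =
      C.op a ((c (e6Node a) : K) * t) from ?_]
    · exact C.op_mem_G0 a hP1
    show MulAut.conj (diagC c) (List.prod _) = List.prod _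
    rw [map_list_prod, List.map_map]
    refine congrArg List.prod (List.map_congr_left fun k _ => ?_)
    rw [Function.comp_apply, MulAut.conj_apply]
    show diagC c * xg e6Good K (C.rk a k) _ * (diagC c)⁻¹ = xg e6Good K (C.rk a k) _
    rw [diagC, ChevAut.charUnit_conj e6Good (diagC_char c) (hrk a k).1, (hrk a k).2,
      ← RingHom.coe_pow, map_mul]
  · rw [SetLike.mem_coe, Subgroup.mem_comap, show (MulAut.conj (diagC c)).toMonoidHom (C.om a t) =
      C.om a (((c (e6Node a))⁻¹ : Kˣ) * t : K) from ?_]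
    · exact C.om_mem_G0 a hP2
    show MulAut.conj (diagC c) (List.prod _) = List.prod _
    rw [map_list_prod, List.map_map]
    refine congrArg List.prod (List.map_congr_left fun k _ => ?_)
    rw [Function.comp_apply, MulAut.conj_apply]
    show diagC c * xg e6Good K (chevE6.neg (C.rk a k)) _ * (diagC c)⁻¹ = xg e6Good K (chevE6.neg (C.rk a k)) _
    rw [diagC, ChevAut.charUnit_conj e6Good (diagC_char c) (e6Good.neg_lt _ (hrk a k).1),
      (diagC_char c).1 _ (hrk a k).1, Units.val_inv_eq_inv_val, (hrk a k).2, Units.val_inv_eq_inv_val,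
      ← RingHom.coe_pow, map_mul, map_inv₀]

theorem cube_weights : ∀ j : Fin 6,
    (chevE6.cartan j.val (chevE6.simple 0) + 2 * chevE6.cartan j.val (chevE6.simple 2) +
      chevE6.cartan j.val (chevE6.simple 4) + 2 * chevE6.cartan j.val (chevE6.simple 5)) % 3 = 0 := by
  decide +kernel

/-- The invariant of a diagonal element. -/
def inv3 {G : Type*} [CommMonoid G] (c : Fin chevE6.rank → G) : G :=
  let d : Fin 6 → G := c
  d 0 * d 2 ^ 2 * d 4 * d 5 ^ 2

theorem inv3_chiX (hcube : ∀ t : Kˣ, t ^ 3 = 1) (y : Fin chevE6.rank → Kˣ) :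
    inv3 (fun i => TwistE6D4.chiX y (chevE6.simple i.val)) = 1 := by
  let z : Fin 6 → Kˣ := y
  show (∏ j : Fin 6, z j ^ chevE6.cartan j.val (chevE6.simple 0)) *
    (∏ j : Fin 6, z j ^ chevE6.cartan j.val (chevE6.simple 2)) ^ 2 *
    (∏ j : Fin 6, z j ^ chevE6.cartan j.val (chevE6.simple 4)) *
    (∏ j : Fin 6, z j ^ chevE6.cartan j.val (chevE6.simple 5)) ^ 2 = 1
  simp only [← Finset.prod_pow, ← Finset.prod_mul_distrib]
  refine Finset.prod_eq_one fun j _ => ?_
  simp only [← zpow_natCast, ← zpow_mul, ← zpow_add]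
  obtain ⟨m, hm⟩ := Int.dvd_of_emod_eq_zero (cube_weights j)
  rw [show ∀ (a b c e : ℤ), a + b * ((2 : ℕ) : ℤ) + c + e * ((2 : ℕ) : ℤ) = a + 2 * b + c + 2 * e from
    fun a b c e => by push_cast; ring, hm, zpow_mul, show ((3 : ℤ)) = ((3 : ℕ) : ℤ) from rfl, zpow_natCast, hcube, one_zpow]

theorem cast_eq_one_or_zero (t : ZMod 2) :
    ZMod.castHom (dvd_refl 2) K t = 0 ∨ ZMod.castHom (dvd_refl 2) K t = 1 := by
  rcases (show t = 0 ∨ t = 1 by revert t; decide) with rfl | rfl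
  · exact Or.inl (map_zero _)
  · exact Or.inr (map_one _)

/-- Conjugacy in the twisted group of two diagonal twists of the subgroup forces equal invariants. -/
theorem diag_trivial [Fintype K] (hcube : ∀ t : Kˣ, t ^ 3 = 1) {c d : Fin chevE6.rank → Kˣ}
    (hc : ∀ i, (c (e6Twist.pi i) : K) = φ (c i)) (hd : ∀ i, (d (e6Twist.pi i) : K) = φ (d i))
    {g : GL chevE6.Idx K} (hg : g ∈ (ctxE6 e6Good φ).G0)
    (h : ∀ z ∈ F4sub (K := K), (diagC d)⁻¹ * (g * (diagC c * z * (diagC c)⁻¹) * g⁻¹) * diagC d ∈ F4sub) :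
    inv3 c = inv3 d := by
  set R := chevRGD e6Good rootsE6 K
  set C := ctxE6 e6Good φ
  set u := uvec e6Good nodes (fun _ => (1 : K)) with hu
  have hu2mem : uvec e6Good nodes (fun _ => (1 : ZMod 2)) ∈ C2.G0 := uvec_mem_G0 (RingHom.id (ZMod 2))
  have hx := h u ⟨_, hu2mem, baseHom_uvec⟩
  obtain ⟨z, hz, ez⟩ := hx
  -- the order of `z`
  obtain ⟨n, hn⟩ : ∃ n, (uvec e6Good nodes (fun _ => (1 : ZMod 2))) ^ 2 ^ n = 1 := by
    obtain ⟨n, hn⟩ := (Chev.BT.isPGroup_pos (F := ZMod 2) 2 e6Good) ⟨uvec e6Good nodes (fun _ => (1 : ZMod 2)), by rw [← chev_Upos (F := ZMod 2) e6Good rootsE6]; exact uvec_mem⟩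
    exact ⟨n, congrArg Subtype.val hn⟩
  have hzn : z ^ 2 ^ n = 1 := by
    apply baseHom_injective (K := K)
    rw [map_pow, ez, map_one, hu, ← baseHom_uvec,
      show ∀ a b e w : GL chevE6.Idx K, a⁻¹ * (b * (e * w * e⁻¹) * b⁻¹) * a =
        (a⁻¹ * b * e) * w * (a⁻¹ * b * e)⁻¹ from fun a b e w => by group, conj_pow, ← map_pow, hn, map_one,
      mul_one, mul_inv_cancel]
  obtain ⟨h2, hh2, hzU⟩ := exists_conj_mem C2.G0 C2.rgd.Upos
    (fun x hx => C2.rgd_G ▸ C2.rgd.B_le_G (C2.rgd.Upos_le_B hx)) C2_pGroup (fun g hg => C2_self_normal hg) hz hzn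
  set w := h2 * z * h2⁻¹ with hw
  set hK := baseHom (K := K) h2 with hhK
  have hhG : hK ∈ C.G0 := F4sub_le φ ⟨h2, hh2, rfl⟩
  set E := (diagC d)⁻¹ * diagC c with hE
  set g'' := (diagC c)⁻¹ * (diagC d * hK * (diagC d)⁻¹) * g * diagC c with hg''def
  have hinvc : (diagC c)⁻¹ = diagC (fun i => (c i)⁻¹) := by
    refine Units.ext ?_
    show chevE6.charDiag K (fun r => (ChevAut.chiOf chevE6 adjE6 3 c r)⁻¹) =
      chevE6.charDiag K (ChevAut.chiOf chevE6 adjE6 3 fun i => (c i)⁻¹)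
    congr 1
    funext r
    simp [ChevAut.chiOf, Finset.prod_inv_distrib]
  have hg'' : g'' ∈ C.G0 := by
    have h1 : diagC d * hK * (diagC d)⁻¹ * g ∈ C.G0 := mul_mem (diagC_conj_G0 φ hd hhG) hg
    have h2 := diagC_conj_G0 φ (c := fun i => (c i)⁻¹)
      (fun i => by rw [Units.val_inv_eq_inv_val, Units.val_inv_eq_inv_val, hc, map_inv₀]) h1
    rw [← hinvc, inv_inv] at h2
    rwa [hg''def, show (diagC c)⁻¹ * (diagC d * hK * (diagC d)⁻¹) * g * diagC c =
      (diagC c)⁻¹ * (diagC d * hK * (diagC d)⁻¹ * g) * diagC c by group]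
  have key : baseHom w = E * (g'' * u * g''⁻¹) * E⁻¹ := by
    rw [hw, map_mul, map_mul, map_inv, ez, ← hhK, hE, hg''def]
    group
  have hwU : baseHom (K := K) w ∈ R.Upos := baseHom_span (C2_Upos_le hzU)
  have hEi : E⁻¹ = (diagC c)⁻¹ * diagC d := by rw [hE]; group
  have hgU : g'' * u * g''⁻¹ ∈ R.Upos := by
    have h1 := char_conj_span e6Good rootsE6 (diagC_char d) (A := {s | R.pos s}) hwU
    have h2 := char_conj_span e6Good rootsE6 (diagC_char fun i => (c i)⁻¹) h1
    change diagC (fun i => (c i)⁻¹) * (diagC d * _ * (diagC d)⁻¹) * (diagC fun i => (c i)⁻¹)⁻¹ ∈ R.Upos at h2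
    rw [← hinvc, key] at h2
    convert h2 using 1
    rw [hE]
    group
  have hB : g'' ∈ R.B := mem_B_of_conj (C.G0_le_group hg'') hgU
  obtain ⟨v, hv, τ, hτ, ev⟩ := R.exists_B hB
  obtain ⟨y, rfl⟩ := ChevFoldF4.mem_diagonal_iff.1 (show τ ∈ chevE6.diagonalSubgroup K from hτ)
  -- compare the coordinates
  have hval : ∀ i, c i * TwistE6D4.chiX y (chevE6.simple i.val) = d i := by
    intro i
    have hs := e6Good.simple_lt i.val i.isLt
    have h1 : Co e6Good rootsE6 i (TwistE6D4.theta chevE6 K y * u * (TwistE6D4.theta chevE6 K y)⁻¹)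
        (TwistE6D4.chiX y (chevE6.simple i.val) : K) :=
      (Co_uvec i fun _ => (1 : K)).toral e6Good rootsE6
        ((TwistE6D4.theta_conj_gx e6Good y hs 1).trans (by rw [mul_one]))
    have h2 := h1.conj e6Good rootsE6 hv
    have h3 := (h2.char_conj e6Good rootsE6 (diagC_char c)).char_conj e6Good rootsE6
      (ChevAut.isRootCharacter_inv (diagC_char d))
    have hinvd : ChevAut.charUnit chevE6 (fun r => (ChevAut.chiOf chevE6 adjE6 3 d r)⁻¹) = (diagC d)⁻¹ :=
      Units.ext rfl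
    rw [hinvd, ← diagC] at h3
    simp only [ChevAut.chiOf_simple e6Good rootsE6] at h3
    obtain ⟨t, ht⟩ := Co.exists_of_mem e6Good rootsE6 (i := i) (C2_Upos_le hzU)
    have h4 : Co e6Good rootsE6 i (baseHom (K := K) w) (ZMod.castHom (dvd_refl 2) K t) := by
      obtain ⟨k, hk, e⟩ := ht
      exact ⟨_, baseHom_span hk, by rw [e, map_mul, baseHom_xg]⟩
    have e5 : baseHom w = (diagC d)⁻¹ * (diagC c * (v * (TwistE6D4.theta chevE6 K y * u *
        (TwistE6D4.theta chevE6 K y)⁻¹) * v⁻¹) * (diagC c)⁻¹) * ((diagC d)⁻¹)⁻¹ := by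
      rw [key, hE, ev]
      group
    rw [← e5] at h3
    have h5 := h3.unique e6Good rootsE6 h4
    rcases cast_eq_one_or_zero (K := K) t with e6 | e6
    · exfalso
      rw [e6] at h5
      simp at h5
    · rw [e6, ← Units.val_mul, ← Units.val_mul, Units.val_eq_one, inv_mul_eq_one] at h5
      exact h5.symm
  have h1 : inv3 d = inv3 c * inv3 (fun i => TwistE6D4.chiX y (chevE6.simple i.val)) := by
    rw [show d = fun i => c i * TwistE6D4.chiX y (chevE6.simple i.val) from funext fun i => (hval i).symm]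
    simp only [inv3, mul_pow]
    ac_rfl
  rw [h1, inv3_chiX hcube, mul_one]

end Cfsg.Agent.TwistE6Sub
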