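import Cfsg.Agent.Lib.RGD.Regular
import Cfsg.Agent.Lib.ChevAut.Char
import Cfsg.Agent.Lib.TwistE6D4.Torus

/-!
# The coordinate at a fundamental root of an element of the positive unipotent subgroup

* `Co i z t` : `z` lies in `Udel i * x_i(t)`; additive, unique, invariant under conjugation in `Upos`;
* `uvec l c` : the product of `x_i(c i)` along a list of nodes;
* `char_conj_span` : a diagonal character preserves the spans of root subgroups.
-/

set_option autoImplicit false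

namespace Cfsg.Agent.TwistE6Sub

open Cfsg.Lie Cfsg.Lie.ChevalleyDatum Cfsg.Agent.Chev Cfsg.Agent.ChevBN

variable {D : ChevalleyDatum} {M : List (List ℤ)} {d : ℤ} (hD : Good D) (hR : Roots D M d)
  {F : Type*} [Field F]

/-- `z` has coordinate `t` at the fundamental root `i`. -/
def Co (i : Fin D.rank) (z : GL D.Idx F) (t : F) : Prop :=
  ∃ k ∈ (chevRGD hD hR F).Udel i, z = k * xg hD F (D.simple i.val) t

variable {i : Fin D.rank}
include hD hR

theorem xg_mem_simple (t : F) : xg hD F (D.simple i.val) t ∈ (chevRGD hD hR F).U ((chevRGD hD hR F).simple i) :=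
  xg_mem_rootSubgroup hD _ t

theorem Co.mem {z : GL D.Idx F} {t : F} (h : Co hD hR i z t) : z ∈ (chevRGD hD hR F).Upos := by
  obtain ⟨k, hk, rfl⟩ := h
  exact mul_mem ((chevRGD hD hR F).Udel_le_Upos i hk)
    ((chevRGD hD hR F).U_le_Upos ((chevRGD hD hR F).pos_simple i) (xg_mem_simple hD hR t))

theorem Co.exists_of_mem {z : GL D.Idx F} (h : z ∈ (chevRGD hD hR F).Upos) : ∃ t, Co hD hR i z t := by
  obtain ⟨k, hk, a, ha, rfl⟩ := (chevRGD hD hR F).exists_Upos (i := i) h
  obtain ⟨t, rfl⟩ := (mem_rootSubgroup hD _).1 ha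
  exact ⟨t, k, hk, rfl⟩

theorem Co.one : Co hD hR i (1 : GL D.Idx F) 0 := ⟨1, one_mem _, by rw [xg_zero, mul_one]⟩

theorem Co.mul {z w : GL D.Idx F} {t u : F} (h : Co hD hR i z t) (h' : Co hD hR i w u) :
    Co hD hR i (z * w) (t + u) := by
  obtain ⟨k, hk, rfl⟩ := h
  obtain ⟨k', hk', rfl⟩ := h'
  refine ⟨k * (xg hD F (D.simple i.val) t * k' * (xg hD F (D.simple i.val) t)⁻¹),
    mul_mem hk ((chevRGD hD hR F).U_conj_Udel i (xg_mem_simple hD hR t) _ hk'), ?_⟩
  rw [← xg_add hD (hD.simple_lt i.val i.isLt)]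
  group

theorem Co.inv {z : GL D.Idx F} {t : F} (h : Co hD hR i z t) : Co hD hR i z⁻¹ (-t) := by
  obtain ⟨k, hk, rfl⟩ := h
  refine ⟨(xg hD F (D.simple i.val) t)⁻¹ * k⁻¹ * ((xg hD F (D.simple i.val) t)⁻¹)⁻¹,
    (chevRGD hD hR F).U_conj_Udel i (inv_mem (xg_mem_simple hD hR t)) _ (inv_mem hk), ?_⟩
  rw [← xg_inv]
  group

theorem Co.conj {v z : GL D.Idx F} {t : F} (hv : v ∈ (chevRGD hD hR F).Upos) (h : Co hD hR i z t) :
    Co hD hR i (v * z * v⁻¹) t := by
  obtain ⟨s, hs⟩ := Co.exists_of_mem hD hR (i := i) hv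
  have := ((hs.mul hD hR h).mul hD hR (hs.inv hD hR))
  rwa [show s + t + -s = t by ring] at this

theorem Co.unique {z : GL D.Idx F} {t u : F} (h : Co hD hR i z t) (h' : Co hD hR i z u) : t = u := by
  obtain ⟨k, hk, rfl⟩ := h
  obtain ⟨k', hk', e⟩ := h'
  refine ChevAut.xg_inj hD (hD.simple_lt i.val i.isLt) (r := D.simple i.val) ?_
  have e1 : k'⁻¹ * k = xg hD F (D.simple i.val) u * (xg hD F (D.simple i.val) t)⁻¹ := by
    rw [eq_mul_inv_iff_mul_eq, mul_assoc, e]
    group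
  have h1 := (chevRGD hD hR F).U_inf_Udel i
    (mul_mem (xg_mem_simple hD hR u) (inv_mem (xg_mem_simple hD hR t)))
    (e1 ▸ mul_mem (inv_mem hk') hk)
  exact (mul_inv_eq_one.1 h1).symm

theorem Co.not_mem {z : GL D.Idx F} {t : F} (h : Co hD hR i z t) (ht : t ≠ 0) :
    z ∉ (chevRGD hD hR F).Udel i := fun hz =>
  ht (Co.unique hD hR h (show Co hD hR i z 0 from ⟨z, hz, by rw [xg_zero, mul_one]⟩))

theorem Co.simple (j : Fin D.rank) (t : F) :
    Co hD hR i (xg hD F (D.simple j.val) t) (if j = i then t else 0) := by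
  split_ifs with h
  · subst h
    exact ⟨1, one_mem _, (one_mul _).symm⟩
  · exact ⟨_, (chevRGD hD hR F).U_le_span
      (A := {s | (chevRGD hD hR F).pos s ∧ s ≠ (chevRGD hD hR F).simple i})
      ⟨(chevRGD hD hR F).pos_simple j, fun e => h ((chevRGD hD hR F).simple_inj e)⟩
      (xg_mem_simple hD hR t), by rw [xg_zero, mul_one]⟩

omit hR in
/-- The product of root elements of the fundamental roots along a list. -/
def uvec (l : List (Fin D.rank)) (c : Fin D.rank → F) : GL D.Idx F :=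
  (l.map fun j => xg hD F (D.simple j.val) (c j)).prod

theorem Co.uvec (l : List (Fin D.rank)) (c : Fin D.rank → F) :
    Co hD hR i (uvec hD l c) ((l.map fun j => if j = i then c j else 0).sum) := by
  induction l with
  | nil => exact Co.one hD hR
  | cons j l ih =>
    rw [List.map_cons, List.sum_cons]
    exact (Co.simple hD hR j (c j)).mul hD hR ih

variable {χ : ℕ → Fˣ} (hχ : D.IsRootCharacter χ)
include hχ

theorem char_conj_span {A : Set (Fin D.nroots)} {z : GL D.Idx F} (hz : z ∈ (chevRGD hD hR F).span A) :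
    ChevAut.charUnit D χ * z * (ChevAut.charUnit D χ)⁻¹ ∈ (chevRGD hD hR F).span A := by
  refine (chevRGD hD hR F).span_conj (fun r hr y hy => ?_) z hz
  obtain ⟨t, rfl⟩ := (mem_rootSubgroup hD _).1 hy
  rw [ChevAut.charUnit_conj hD hχ r.isLt]
  exact (chevRGD hD hR F).U_le_span hr (xg_mem_rootSubgroup hD _ _)

theorem Co.char_conj {z : GL D.Idx F} {t : F} (h : Co hD hR i z t) :
    Co hD hR i (ChevAut.charUnit D χ * z * (ChevAut.charUnit D χ)⁻¹) ((χ (D.simple i.val) : F) * t) := by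
  obtain ⟨k, hk, rfl⟩ := h
  refine ⟨_, char_conj_span hD hR hχ hk, ?_⟩
  rw [← ChevAut.charUnit_conj hD hχ (hD.simple_lt i.val i.isLt)]
  group

omit hχ in
theorem Co.toral {y : Fin D.rank → Fˣ} {z : GL D.Idx F} {t : F} (h : Co hD hR i z t) {e : F}
    (he : TwistE6D4.theta D F y * xg hD F (D.simple i.val) t * (TwistE6D4.theta D F y)⁻¹ =
      xg hD F (D.simple i.val) e) :
    Co hD hR i (TwistE6D4.theta D F y * z * (TwistE6D4.theta D F y)⁻¹) e := by
  obtain ⟨k, hk, rfl⟩ := h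
  refine ⟨_, (chevRGD hD hR F).H_conj_span _ (TwistE6D4.theta_mem_diagonal hD y) _ hk, ?_⟩
  rw [← he]
  group

end Cfsg.Agent.TwistE6Sub
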